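import Cfsg.Agent.H380.RV.Inst
import Cfsg.Agent.H556.HallSURow

/-!
# TEAM RV, R2: `LinDat` for `GL_n(q)` and `GU_n(q)` (helper380)
-/

set_option autoImplicit false
set_option linter.unusedSectionVars false

namespace Cfsg.Agent.H380.RV

open Module Matrix Cfsg Cfsg.Agent.H167.OP Cfsg.Agent.H170.HL Cfsg.Agent.H556.HallRowAbs Cfsg.Agent.H553.RV
open Cfsg.Agent.H556 Cfsg.Agent.H556.HallSLRow Cfsg.Agent.LieClassical.HermBasic

variable {F : Type*} [Field F] [Fintype F] {n q : ℕ}

/-- a root of unity of prime order -/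
theorem eq_one_of_pow {d : F} {u k : ℕ} (hu : u.Prime) (h1 : d ^ u = 1) (h2 : d ^ k = 1) (h3 : ¬ u ∣ k) : d = 1 := by
  have h4 : orderOf d ∣ Nat.gcd u k := Nat.dvd_gcd (orderOf_dvd_of_pow_eq_one h1) (orderOf_dvd_of_pow_eq_one h2)
  rw [(hu.coprime_iff_not_dvd).2 h3, Nat.dvd_one] at h4
  exact orderOf_eq_one_iff.1 h4

theorem card_ne {t : ℕ} (ht : t.Prime) (htF : (t : F) ≠ 0) : (Fintype.card F : ZMod t) ≠ 0 := by
  rw [Ne, ZMod.natCast_eq_zero_iff]
  exact not_dvd_card ht htF

theorem dt_GL (n : ℕ) : Dt (fun _ _ => (0 : F)) (Units.coeHom (Matrix (Fin n) (Fin n) F))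
    (fun t => orderOf (Fintype.card F : ZMod t)) where
  inj := Units.val_injective
  pres _ _ _ := rfl
  sur M hM _ := ⟨hM.unit, rfl⟩
  addl _ _ _ := (add_zero _).symm
  addr _ _ _ := (add_zero _).symm
  row :=
    { inj := rep_injective Units.val_injective
      lb := fun r hr _ hrF D E hED hab hexp hV => lb_VE _ hr hrF hED hab hexp hV
      epos := fun r hr hrF => HallOrd.order_pos hr (card_ne hr hrF)
      edvd := fun r hr hrF => HallOrd.order_dvd hr (card_ne hr hrF) }
  ex t ht _ htF := by
    have := Fact.mk ht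
    have hpos := HallOrd.order_pos ht (card_ne ht htF)
    have h1 : t ∣ Nat.card (GL (Fin (orderOf (Fintype.card F : ZMod t))) F) := by
      have h2 : t ∣ Fintype.card F ^ orderOf (Fintype.card F : ZMod t) - 1 := by
        rw [HallOrd.dvd_iff_plus Fintype.card_pos, pow_orderOf_eq_one]
      refine h2.trans ?_
      rw [HallOrd.card_GL_prod]
      have h3 := Finset.dvd_prod_of_mem (fun i => Fintype.card F ^ orderOf (Fintype.card F : ZMod t) - Fintype.card F ^ i)
        (Finset.mem_range.2 hpos)
      rwa [pow_zero] at h3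
    obtain ⟨y, hy⟩ := exists_prime_orderOf_dvd_card' t h1
    refine ⟨y.1, ?_, ?_, fun _ _ => rfl⟩
    · have h2 := congrArg Units.val (pow_orderOf_eq_one y)
      rw [hy] at h2
      simpa using h2
    · intro h2
      have h3 : y = 1 := Units.ext h2
      rw [h3, orderOf_one] at hy
      exact ht.one_lt.ne hy
  det u hu _ huF he M hM _ := by
    have h1 : M.det ^ u = 1 := by rw [← Matrix.det_pow, hM, Matrix.det_one]
    have h0 : M.det ≠ 0 := by
      intro h2
      rw [h2, zero_pow hu.ne_zero] at h1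
      exact zero_ne_one h1
    refine eq_one_of_pow hu h1 (FiniteField.pow_card_sub_one_eq_one _ h0) fun h2 => he ?_
    rw [← pow_one (Fintype.card F), HallOrd.dvd_iff_plus Fintype.card_pos, pow_one] at h2
    rw [h2, orderOf_one]

/-- the representation of `GL_n` -/
theorem linDat_GL (n : ℕ) : LinDat (rep (Units.coeHom (Matrix (Fin n) (Fin n) F)))
    (fun t => orderOf (Fintype.card F : ZMod t)) (GeneralLinearGroup.det (n := Fin n) (R := F)).ker :=
  (dt_GL n).linDat fun y => by
    rw [MonoidHom.mem_ker, Units.ext_iff]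
    rfl

/-- the inclusion of `GU_n` -/
def incU (n : ℕ) (F : Type*) [Field F] (q : ℕ) : GU n F q →* Matrix (Fin n) (Fin n) F :=
  (Units.coeHom (Matrix (Fin n) (Fin n) F)).comp (GU n F q).subtype

theorem incU_injective {F : Type*} [Field F] : Function.Injective (incU n F q) :=
  Units.val_injective.comp Subtype.val_injective

theorem herm_eq (u v : Fin n → F) : hermForm n F q u v = Bf (fun a b => a * b ^ q) u v := rfl

theorem q_ne (hF : Fintype.card F = q ^ 2) {t : ℕ} (ht : t.Prime) (htF : (t : F) ≠ 0) : -(q : ZMod t) ≠ 0 := by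
  rw [Ne, neg_eq_zero, ZMod.natCast_eq_zero_iff]
  exact fun h => not_dvd_card ht htF (hF ▸ dvd_pow h two_ne_zero)

theorem dt_GU (hF : Fintype.card F = q ^ 2) (n : ℕ) : Dt (fun a b : F => a * b ^ q) (incU n F q)
    (fun t => orderOf (-(q : ZMod t))) where
  inj := incU_injective
  pres y u v := y.2 u v
  sur M hM h := ⟨⟨hM.unit, fun u v => h u v⟩, rfl⟩
  addl _ _ _ := add_mul _ _ _
  addr a b c := by rw [add_pow_q hF, mul_add]
  row :=
    { inj := rep_injective incU_injective
      lb := fun r hr _ hrF D E hED hab hexp hV =>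
        HallSURow.lb_VE hF _ (fun g u v => g.2 u v) hr hrF hED hab hexp hV
      epos := fun r hr hrF => HallOrd.order_pos hr (q_ne hF hr hrF)
      edvd := fun r hr hrF => HallOrd.order_dvd hr (q_ne hF hr hrF) }
  ex t ht _ htF := by
    have := Fact.mk ht
    have hq := q_pos hF
    have hpos := HallOrd.order_pos ht (q_ne hF ht htF)
    have h1 : t ∣ Nat.card (GU (orderOf (-(q : ZMod t))) F q) := by
      have h2 : t ∣ (if Even (orderOf (-(q : ZMod t))) then q ^ (orderOf (-(q : ZMod t))) - 1
          else q ^ (orderOf (-(q : ZMod t))) + 1) := by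
        rw [HallOrd.dvd_iff_minus hq, pow_orderOf_eq_one]
      refine h2.trans ?_
      rw [S0277.result hF]
      refine Dvd.dvd.mul_left ?_ _
      generalize orderOf (-(q : ZMod t)) = m at hpos
      obtain ⟨k, rfl⟩ : ∃ k, m = k + 1 := ⟨m - 1, by omega⟩
      have h3 := Finset.dvd_prod_of_mem (fun i => if Even i then q ^ (i + 1) + 1 else q ^ (i + 1) - 1)
        (Finset.mem_range.2 (Nat.lt_succ_self k))
      refine dvd_trans ?_ h3
      by_cases h4 : Even k
      · rw [if_neg (by rw [Nat.even_add_one]; exact not_not.2 h4)]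
        simp only [if_pos h4]
        exact dvd_rfl
      · rw [if_pos (by rw [Nat.even_add_one]; exact h4)]
        simp only [if_neg h4]
        exact dvd_rfl
    obtain ⟨y, hy⟩ := exists_prime_orderOf_dvd_card' t h1
    refine ⟨y.1.1, ?_, ?_, fun u v => y.2 u v⟩
    · have h2 := congrArg (fun x : GU (orderOf (-(q : ZMod t))) F q => x.1.1) (pow_orderOf_eq_one y)
      rw [hy] at h2
      simpa using h2
    · intro h2
      have h3 : y = 1 := Subtype.ext (Units.ext h2)
      rw [h3, orderOf_one] at hy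
      exact ht.one_lt.ne hy
  det u hu _ huF he M hM hp := by
    have hq := q_pos hF
    have h1 : M.det ^ u = 1 := by rw [← Matrix.det_pow, hM, Matrix.det_one]
    have h2 : M.det ^ (q + 1) = 1 := Cfsg.Agent.LieClassical.GUOrder.det_mul_frob_det hF M hp
    refine eq_one_of_pow hu h1 h2 fun h3 => he ?_
    have h4 := HallOrd.dvd_iff_minus (t := u) (j := 1) hq
    rw [if_neg (by decide), pow_one, pow_one] at h4
    rw [h4.1 h3, orderOf_one]

/-- the determinant on `GU_n` -/
theorem linDat_GU (hF : Fintype.card F = q ^ 2) (n : ℕ) : LinDat (rep (incU n F q))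
    (fun t => orderOf (-(q : ZMod t))) ((GeneralLinearGroup.det (n := Fin n) (R := F)).comp (GU n F q).subtype).ker :=
  (dt_GU hF n).linDat fun y => by
    rw [MonoidHom.mem_ker, Units.ext_iff]
    rfl

end Cfsg.Agent.H380.RV
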