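import Cfsg.Agent.H571.RV.Pred
import Cfsg.Agent.H571.DExtD
import Cfsg.Agent.H808.RV.Iso
import Cfsg.Agent.H808.RV.Quot
import Cfsg.Agent.OddOrderLocal.HallPi
import Cfsg.Agent.S0205

/-!
# TEAM RV, R2: transfer from `GL_n(q)`, `GU_n(q)` to the simple groups (helper380)
-/

set_option autoImplicit false
set_option linter.style.haveILetI false

namespace Cfsg.Agent.H380.RV

open Subgroup Cfsg Cfsg.Agent.H988.CPi Cfsg.Agent.H571.DExt Cfsg.Agent.H571.RV Cfsg.Agent.H808.RV
open Cfsg.Agent.OddOrderLocal Cfsg.Agent.Solvable.SZ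
open scoped Pointwise

variable {π : Set ℕ}

theorem isPiHallOf_top {Q : Type*} [Group Q] {H : Subgroup Q} : IsPiHallOf π H ⊤ ↔ IsPiHall π H := by
  rw [IsPiHallOf, relIndex_top_right]
  exact ⟨fun h => h.2, fun h => ⟨le_top, h⟩⟩

theorem cpi_of_solvable {Q : Type*} [Group Q] [Finite Q] (h : Group.IsSolvable Q) : IsCPiGroup π Q := by
  have h1 : Group.IsSolvable (⊤ : Subgroup Q) := inferInstance
  refine ⟨?_, fun H K hH hK => ?_⟩
  · obtain ⟨K, hK⟩ := HallPi.exists_isPiHallOf h1 π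
    exact ⟨K, isPiHallOf_top.1 hK⟩
  · obtain ⟨m, -, hm⟩ := HallPi.conj_of_isPiHallOf h1 (isPiHallOf_top.2 hH) (isPiHallOf_top.2 hK)
    exact ⟨m, hm.symm⟩

theorem odd_of_piN (h2 : 2 ∉ π) {n : ℕ} (h : PiN π n) : Odd n := by
  rw [← Nat.not_even_iff_odd, even_iff_two_dvd]
  exact fun h1 => h2 (h 2 Nat.prime_two h1)

/-- `D_π` for central extensions -/
theorem dom_of_ker {X S : Type*} [Group X] [Finite X] [Group S] [Finite S] (h2 : 2 ∉ π) (f : X →* S)
    (hf : Function.Surjective f) (hc : f.ker ≤ center X) (hD : Dom π S) : Dom π X := by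
  have hcomm : ∀ a b : f.ker, a * b = b * a := fun a b =>
    Subtype.ext ((mem_center_iff.1 (hc b.2) a.1))
  have hsol : Group.IsSolvable f.ker := by
    letI : CommGroup f.ker := { (inferInstance : Group f.ker) with mul_comm := hcomm }
    infer_instance
  obtain ⟨H, hH⟩ := (cpi_of_solvable (π := π) hsol).1
  have hn : Group.IsNilpotent H := by
    letI : CommGroup H := { (inferInstance : Group H) with
      mul_comm := fun a b => Subtype.ext (hcomm a b) }
    infer_instance
  exact dom_ext_nilpotent f.ker hH hn (dom_congr (QuotientGroup.quotientKerEquivOfSurjective f hf).symm hD) fun Y hY =>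
    S0205.result (odd_of_piN h2 hY)

/-- the conclusion of the abstract theorem -/
def FH {Y : Type*} [Group Y] (H : Subgroup Y) : Prop :=
  ∃ r : ℕ, r.Prime ∧ ∃ A : Subgroup Y, A ≤ H ∧ H ≤ normalizer (A : Set Y) ∧
    (∀ a ∈ A, ∀ b ∈ A, a * b = b * a) ∧ ¬ r ∣ Nat.card A ∧ ∀ p : ℕ, p.Prime → p ∣ A.relIndex H → p = r

/-- every `π`-subgroup of `X` lies in an `X`-conjugate of `H` -/
def DomX (π : Set ℕ) {Y : Type*} [Group Y] (X H : Subgroup Y) : Prop :=
  ∀ K : Subgroup Y, K ≤ X → PiN π (Nat.card K) → ∃ x ∈ X, K ≤ MulAut.conj x • H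

theorem exists_domX {Y : Type*} [Group Y] [Finite Y] (X : Subgroup Y) [X.Normal] (hQ : Group.IsSolvable (Y ⧸ X))
    (hD : Dom π X) : ∃ H : Subgroup Y, IsPiHall π H ∧ DomX π X H := by
  obtain ⟨H, hH⟩ := (cpi_extension X hD.cpi (cpi_of_solvable hQ)).1
  refine ⟨H, hH, fun K hKX hK => ?_⟩
  have hHX : IsPiHall π (H.subgroupOf X) := isPiHall_subgroupOf hH X
  obtain ⟨L, hL, hdom⟩ := hD
  obtain ⟨g, hg⟩ := hdom (K.subgroupOf X) (by rw [card_subgroupOf _ _ hKX]; exact hK)
  obtain ⟨k, hk⟩ := (Dom.cpi ⟨L, hL, hdom⟩).2 _ _ hHX hL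
  rw [hk, conj_eq, ← mul_smul, ← map_mul] at hg
  refine ⟨(g * k : X), (g * k).2, ?_⟩
  have h1 := Subgroup.map_mono (f := X.subtype) hg
  rw [subgroupOf_map_subtype, inf_eq_left.2 hKX, map_smul_conj, subgroupOf_map_subtype] at h1
  exact h1.trans (Subgroup.pointwise_smul_le_pointwise_smul_iff.2 inf_le_left)

theorem relIndex_dvd_of_normalizes {Y : Type*} [Group Y] {A H K : Subgroup Y} (hAH : A ≤ H)
    (hn : H ≤ normalizer (A : Set Y)) (hKH : K ≤ H) : A.relIndex K ∣ A.relIndex H := by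
  have h1 : (A.subgroupOf H).Normal := (normal_subgroupOf_iff_le_normalizer hAH).mpr hn
  rw [← relIndex_subgroupOf hKH]
  exact Subgroup.relIndex_dvd_index_of_normal _ _

theorem FH.fhall {Y S : Type*} [Group Y] [Finite Y] [Group S] [Finite S] (X : Subgroup Y) [X.Normal] (f : X →* S)
    (hf : Function.Surjective f) {H : Subgroup Y} (hH : IsPiHall π H) (h : FH H) : FHall π S := by
  obtain ⟨r, hr, A, hAH, hn, hab, hrA, hidx⟩ := h
  have hHX : IsPiHall π (H.subgroupOf X) := isPiHall_subgroupOf hH X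
  have hAH' : A.subgroupOf X ≤ H.subgroupOf X := Subgroup.comap_mono hAH
  refine ⟨r, hr, (H.subgroupOf X).map f, (A.subgroupOf X).map f, ⟨?_, ?_⟩, Subgroup.map_mono hAH', ?_, ?_, ?_, ?_⟩
  · exact PiN.of_dvd hHX.1 (card_map_dvd _ _)
  · exact PiN'.of_dvd hHX.2 (index_map_dvd _ hf)
  · have h1 : H.subgroupOf X ≤ normalizer ((A.subgroupOf X : Subgroup X) : Set X) := by
      intro x hx
      rw [Subgroup.mem_normalizer_iff]
      intro y
      have h2 := Subgroup.mem_normalizer_iff.1 (hn hx) y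
      exact h2
    exact (Subgroup.map_mono h1).trans (Subgroup.le_normalizer_map _)
  · rintro _ ⟨a, ha, rfl⟩ _ ⟨b, hb, rfl⟩
    rw [← map_mul, ← map_mul]
    exact congrArg f (Subtype.ext (hab a ha b hb))
  · intro h1
    apply hrA
    refine h1.trans ((card_map_dvd _ _).trans ?_)
    exact Subgroup.card_comap_dvd_of_injective _ _ X.subtype_injective
  · intro p hp hd
    refine hidx p hp (hd.trans ?_)
    rw [← Subgroup.relIndex_comap]
    refine (Subgroup.relIndex_dvd_of_le_left _ (Subgroup.le_comap_map f _)).trans ?_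
    rw [Subgroup.subgroupOf, Subgroup.relIndex_comap, Subgroup.subgroupOf_map_subtype]
    exact relIndex_dvd_of_normalizes hAH hn inf_le_left

/-- **Transfer.** -/
theorem fhall_transfer {Y S A : Type*} [Group Y] [Finite Y] [Group S] [Finite S] [CommGroup A] (h2 : 2 ∉ π)
    (δ : Y →* A) (f : δ.ker →* S) (hf : Function.Surjective f) (hc : f.ker ≤ center δ.ker)
    (habs : ∀ H : Subgroup Y, IsPiHall π H → DomX π δ.ker H → FH H) (hD : Dom π S) : FHall π S := by
  have hQ : Group.IsSolvable (Y ⧸ δ.ker) := by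
    letI : CommGroup (Y ⧸ δ.ker) := { (inferInstance : Group (Y ⧸ δ.ker)) with
      mul_comm := fun a b => QuotientGroup.kerLift_injective δ (by rw [map_mul, map_mul, mul_comm]) }
    infer_instance
  obtain ⟨H, hH, hdom⟩ := exists_domX δ.ker hQ (dom_of_ker h2 f hf hc hD)
  exact (habs H hH hdom).fhall δ.ker f hf hH

/-- The same, with `δ.ker` given as an injective image. -/
theorem fhall_transfer' {Y S A K : Type*} [Group Y] [Finite Y] [Group S] [Finite S] [CommGroup A] [Group K] (h2 : 2 ∉ π)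
    (δ : Y →* A) (j : K →* Y) (hj : Function.Injective j) (hjδ : j.range = δ.ker) (f : K →* S)
    (hf : Function.Surjective f) (hc : f.ker ≤ center K)
    (habs : ∀ H : Subgroup Y, IsPiHall π H → DomX π δ.ker H → FH H) (hD : Dom π S) : FHall π S := by
  let e : K ≃* δ.ker := (MonoidHom.ofInjective hj).trans (MulEquiv.subgroupCongr hjδ)
  refine fhall_transfer h2 δ (f.comp e.symm.toMonoidHom) (hf.comp e.symm.surjective) ?_ habs hD
  intro x hx
  have h1 : e.symm x ∈ center K := hc hx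
  rw [mem_center_iff] at h1 ⊢
  intro y
  have h3 := h1 (e.symm y)
  rw [← map_mul, ← map_mul] at h3
  exact e.symm.injective h3

end Cfsg.Agent.H380.RV
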