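import Cfsg.Agent.H380.RV.Tr
import Cfsg.Agent.H380.RV.Lin
import Cfsg.Prelude.Def_LieTypeChar

/-!
# TEAM RV, R2: transfer for `PSL_n(q)`, `PSU_n(q)` (helper380)
-/

set_option autoImplicit false
set_option linter.style.haveILetI false
set_option linter.unusedSectionVars false

namespace Cfsg.Agent.H380.RV

open Subgroup Matrix Cfsg Cfsg.Agent.H988.CPi Cfsg.Agent.H571.DExt Cfsg.Agent.H571.RV
open scoped Pointwise

variable {π : Set ℕ} {F : Type*} [Field F] [Fintype F] {n q : ℕ} {S : Type*} [Group S] [Finite S]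

/-- the determinant on `GL_n` -/
def dGL (n : ℕ) (F : Type*) [Field F] : GL (Fin n) F →* Fˣ := GeneralLinearGroup.det (n := Fin n) (R := F)

/-- the determinant on `GU_n` -/
def dGU (n : ℕ) (F : Type*) [Field F] (q : ℕ) : GU n F q →* Fˣ :=
  (GeneralLinearGroup.det (n := Fin n) (R := F)).comp (GU n F q).subtype

theorem ker_comp {K P S : Type*} [Group K] [Group P] [Group S] (e : S ≃* P) (g : K →* P) :
    (e.symm.toMonoidHom.comp g).ker = g.ker := by
  ext x
  rw [MonoidHom.mem_ker, MonoidHom.mem_ker]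
  constructor
  · intro h
    exact e.symm.injective (h.trans (map_one e.symm).symm)
  · intro h
    show e.symm (g x) = 1
    rw [h, map_one]

/-- **Transfer for `PSL_n`.** -/
theorem fhall_psl (e : S ≃* ProjectiveSpecialLinearGroup (Fin n) F) (h2 : 2 ∉ π)
    (habs : ∀ H : Subgroup (GL (Fin n) F), IsPiHall π H → DomX π (dGL n F).ker H → FH H) (hD : Dom π S) :
    FHall π S := by
  refine fhall_transfer' h2 (dGL n F) (SpecialLinearGroup.toGL (n := Fin n) (R := F)) ?_ ?_
    (e.symm.toMonoidHom.comp (QuotientGroup.mk' (Subgroup.center (SpecialLinearGroup (Fin n) F)))) ?_ ?_ habs hD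
  · intro a b h
    exact Subtype.ext (congrArg Units.val h)
  · ext g
    rw [MonoidHom.mem_range, MonoidHom.mem_ker, Units.ext_iff]
    constructor
    · rintro ⟨x, rfl⟩
      exact x.2
    · intro h
      exact ⟨⟨g.1, h⟩, Units.ext rfl⟩
  · exact e.symm.surjective.comp (QuotientGroup.mk'_surjective _)
  · rw [ker_comp, QuotientGroup.ker_mk']

/-- the embedding of `SU_n` in `GU_n` -/
def jU (n : ℕ) (F : Type*) [Field F] (q : ℕ) : SU n F q →* GU n F q where
  toFun x := ⟨SpecialLinearGroup.toGL x.1, fun u v => x.2 u v⟩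
  map_one' := Subtype.ext (map_one SpecialLinearGroup.toGL)
  map_mul' _ _ := Subtype.ext (map_mul SpecialLinearGroup.toGL _ _)

/-- **Transfer for `PSU_n`.** -/
theorem fhall_psu (e : S ≃* PSU n F q) (h2 : 2 ∉ π)
    (habs : ∀ H : Subgroup (GU n F q), IsPiHall π H → DomX π (dGU n F q).ker H → FH H) (hD : Dom π S) :
    FHall π S := by
  refine fhall_transfer' h2 (dGU n F q) (jU n F q) ?_ ?_
    (e.symm.toMonoidHom.comp (QuotientGroup.mk' (Subgroup.center (SU n F q)))) ?_ ?_ habs hD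
  · intro a b h
    exact Subtype.ext (Subtype.ext (congrArg (fun x : GU n F q => x.1.1) h))
  · ext g
    rw [MonoidHom.mem_range, MonoidHom.mem_ker, Units.ext_iff]
    constructor
    · rintro ⟨x, rfl⟩
      exact x.1.2
    · intro h
      exact ⟨⟨⟨g.1.1, h⟩, fun u v => g.2 u v⟩, Subtype.ext (Units.ext rfl)⟩
  · exact e.symm.surjective.comp (QuotientGroup.mk'_surjective _)
  · rw [ker_comp, QuotientGroup.ker_mk']

/-- The abstract theorem (helper553). -/
def AbsLin (π : Set ℕ) : Prop :=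
  ∀ (F : Type) [Field F] [Fintype F] (n : ℕ) (Y : Type) [Group Y] [Finite Y] (ρ : Representation F Y (Fin n → F))
    (e : ℕ → ℕ) (X : Subgroup Y), Cfsg.Agent.H553.RV.LinDat ρ e X → 2 ∉ π →
    (∀ r ∈ π, r.Prime → (r : F) ≠ 0) → ∀ H : Subgroup Y, IsPiHall π H → DomX π X H → FH H

theorem char_ne {p : ℕ} {F : Type*} [Field F] [Fintype F] [CharP F p] (hp : p ∉ π) :
    ∀ r ∈ π, r.Prime → (r : F) ≠ 0 := by
  intro r hr hr' h
  have hpp : p.Prime := by
    obtain ⟨m, hm, -⟩ := FiniteField.card F p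
    exact hm
  rw [CharP.cast_eq_zero_iff F p, Nat.prime_dvd_prime_iff_eq hpp hr'] at h
  exact hp (h ▸ hr)

theorem fhall_pslChar (habs : AbsLin π) {p : ℕ} (h2 : 2 ∉ π) (hp : p ∉ π) (h : IsPSLChar p S) (hD : Dom π S) :
    FHall π S := by
  obtain ⟨F, _, _, _, n, -, -, ⟨e⟩⟩ := h
  exact fhall_psl e h2 (habs F n _ _ _ _ (linDat_GL n) h2 (char_ne (p := p) hp)) hD

theorem fhall_psuChar (habs : AbsLin π) {p : ℕ} (h2 : 2 ∉ π) (hp : p ∉ π) (h : IsPSUChar p S) (hD : Dom π S) :
    FHall π S := by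
  obtain ⟨F, _, _, _, n, q, hF, -, -, ⟨e⟩⟩ := h
  exact fhall_psu e h2 (habs F n _ _ _ _ (linDat_GU hF n) h2 (char_ne (p := p) hp)) hD

end Cfsg.Agent.H380.RV
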