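import Mathlib

/-!
# TEAM RV, R2: block matrices preserving a form `Σ φ(u_i, v_i)` (helper380)
-/

set_option autoImplicit false
set_option linter.unusedSectionVars false
set_option linter.unusedSimpArgs false

namespace Cfsg.Agent.H380.RV

open Matrix

section

variable {F : Type*} [Field F] (φ : F → F → F)

/-- the form `Σ φ(u_i, v_i)` -/
def Bf {ι : Type*} [Fintype ι] (u v : ι → F) : F := ∑ i, φ (u i) (v i)

/-- `M` preserves the form -/
def Pres {ι : Type*} [Fintype ι] (M : Matrix ι ι F) : Prop :=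
  ∀ u v : ι → F, Bf φ (M *ᵥ u) (M *ᵥ v) = Bf φ u v

variable {φ}

theorem Pres.one {ι : Type*} [Fintype ι] [DecidableEq ι] : Pres φ (1 : Matrix ι ι F) := by
  intro u v
  rw [one_mulVec, one_mulVec]

theorem Pres.mul {ι : Type*} [Fintype ι] {M N : Matrix ι ι F} (hM : Pres φ M) (hN : Pres φ N) :
    Pres φ (M * N) := by
  intro u v
  rw [← mulVec_mulVec, ← mulVec_mulVec, hM, hN]

theorem ext_mulVec {ι : Type*} [Fintype ι] [DecidableEq ι] {M N : Matrix ι ι F} (h : ∀ v, M *ᵥ v = N *ᵥ v) : M = N :=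
  Matrix.toLin'.injective (LinearMap.ext fun v => by rw [toLin'_apply, toLin'_apply, h])

end

section Blk

variable {F : Type*} [Field F] {φ : F → F → F} {α κ l ι : Type*} [Fintype α] [Fintype κ] [Fintype l] [Fintype ι]
  [DecidableEq α] [DecidableEq κ] [DecidableEq l] [DecidableEq ι]

/-- block diagonal matrices -/
def Ps (ε : (α × κ) ⊕ l ≃ ι) (M : κ → Matrix α α F) (D : l → F) : Matrix ι ι F :=
  Matrix.reindex ε ε (fromBlocks (blockDiagonal M) 0 0 (diagonal D))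

theorem Ps_mul (ε : (α × κ) ⊕ l ≃ ι) (M N : κ → Matrix α α F) (D D' : l → F) :
    Ps ε (M * N) (D * D') = Ps ε M D * Ps ε N D' := by
  rw [Ps, Ps, Ps, reindex_apply, reindex_apply, reindex_apply, submatrix_mul_equiv, fromBlocks_multiply]
  congr 1
  simp only [Matrix.mul_zero, Matrix.zero_mul, add_zero, zero_add, diagonal_mul_diagonal]
  rw [← blockDiagonal_mul]
  rfl

theorem Ps_one (ε : (α × κ) ⊕ l ≃ ι) : Ps ε (1 : κ → Matrix α α F) (1 : l → F) = 1 := by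
  rw [Ps, blockDiagonal_one, diagonal_one', fromBlocks_one, reindex_apply, submatrix_one_equiv]

theorem Ps_inl (ε : (α × κ) ⊕ l ≃ ι) (M : κ → Matrix α α F) (D : l → F) (v : ι → F) (a : α) (i : κ) :
    (Ps ε M D *ᵥ v) (ε (Sum.inl (a, i))) = (M i *ᵥ fun b => v (ε (Sum.inl (b, i)))) a := by
  rw [Ps, reindex_apply, mulVec, dotProduct, mulVec, dotProduct, ← ε.sum_comp, Fintype.sum_sum_type,
    Fintype.sum_prod_type]
  simp only [submatrix_apply, Equiv.symm_apply_apply, fromBlocks_apply₁₁, fromBlocks_apply₁₂, Matrix.zero_apply, zero_mul,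
    Finset.sum_const_zero, add_zero, blockDiagonal_apply, ite_mul]
  simp

theorem Ps_inr (ε : (α × κ) ⊕ l ≃ ι) (M : κ → Matrix α α F) (D : l → F) (v : ι → F) (j : l) :
    (Ps ε M D *ᵥ v) (ε (Sum.inr j)) = D j * v (ε (Sum.inr j)) := by
  rw [Ps, reindex_apply, mulVec, dotProduct, ← ε.sum_comp, Fintype.sum_sum_type]
  simp only [submatrix_apply, Equiv.symm_apply_apply, fromBlocks_apply₂₁, fromBlocks_apply₂₂, Matrix.zero_apply, zero_mul,
    Finset.sum_const_zero, zero_add, diagonal_apply, ite_mul]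
  simp

theorem Ps_det (ε : (α × κ) ⊕ l ≃ ι) (M : κ → Matrix α α F) (D : l → F) :
    (Ps ε M D).det = (∏ i, (M i).det) * ∏ j, D j := by
  rw [Ps, det_reindex_self, det_fromBlocks_zero₂₁, det_blockDiagonal, det_diagonal]

theorem Ps_pres (ε : (α × κ) ⊕ l ≃ ι) {M : κ → Matrix α α F} {D : l → F} (hM : ∀ i, Pres φ (M i))
    (hD : ∀ j a b, φ (D j * a) (D j * b) = φ a b) : Pres φ (Ps ε M D) := by
  intro u v
  rw [Bf, Bf, ← ε.sum_comp, ← ε.sum_comp (fun i => φ (u i) (v i)), Fintype.sum_sum_type, Fintype.sum_sum_type]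
  congr 1
  · rw [Fintype.sum_prod_type_right, Fintype.sum_prod_type_right]
    refine Finset.sum_congr rfl fun i _ => ?_
    simp only [Ps_inl]
    exact hM i (fun b => u (ε (Sum.inl (b, i)))) (fun b => v (ε (Sum.inl (b, i))))
  · refine Finset.sum_congr rfl fun j _ => ?_
    rw [Ps_inr, Ps_inr, hD]

/-- the embedding in one block -/
def Zi (ε : (α × κ) ⊕ l ≃ ι) (z : Matrix α α F) (i : κ) : Matrix ι ι F := Ps ε (Pi.mulSingle i z) 1

theorem Zi_inl (ε : (α × κ) ⊕ l ≃ ι) (z : Matrix α α F) (i : κ) (v : ι → F) (a : α) :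
    (Zi ε z i *ᵥ v) (ε (Sum.inl (a, i))) = (z *ᵥ fun b => v (ε (Sum.inl (b, i)))) a := by
  rw [Zi, Ps_inl, Pi.mulSingle_eq_same]

theorem Zi_inl_ne (ε : (α × κ) ⊕ l ≃ ι) (z : Matrix α α F) {i j : κ} (h : j ≠ i) (v : ι → F) (a : α) :
    (Zi ε z i *ᵥ v) (ε (Sum.inl (a, j))) = v (ε (Sum.inl (a, j))) := by
  rw [Zi, Ps_inl, Pi.mulSingle_eq_of_ne h, one_mulVec]

theorem Zi_inr (ε : (α × κ) ⊕ l ≃ ι) (z : Matrix α α F) (i : κ) (v : ι → F) (j : l) :
    (Zi ε z i *ᵥ v) (ε (Sum.inr j)) = v (ε (Sum.inr j)) := by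
  rw [Zi, Ps_inr, Pi.one_apply, one_mul]

theorem Zi_pow (ε : (α × κ) ⊕ l ≃ ι) (z : Matrix α α F) (i : κ) (n : ℕ) : Zi ε z i ^ n = Zi ε (z ^ n) i := by
  induction n with
  | zero => rw [pow_zero, pow_zero, Zi, Pi.mulSingle_one, Ps_one]
  | succ n ih => rw [pow_succ, ih, pow_succ, Zi, Zi, Zi, ← Ps_mul, one_mul, Pi.mulSingle_mul]

theorem Zi_pres (ε : (α × κ) ⊕ l ≃ ι) {z : Matrix α α F} (hz : Pres φ z) (i : κ) : Pres φ (Zi ε z i) := by
  refine Ps_pres ε (fun j => ?_) (fun j a b => by rw [Pi.one_apply, one_mul, one_mul])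
  by_cases h : j = i
  · subst h; rwa [Pi.mulSingle_eq_same]
  · rw [Pi.mulSingle_eq_of_ne h]; exact Pres.one

theorem Zi_one (ε : (α × κ) ⊕ l ≃ ι) (i : κ) : Zi ε (1 : Matrix α α F) i = 1 := by
  rw [Zi, Pi.mulSingle_one, Ps_one]

theorem Zi_inj (ε : (α × κ) ⊕ l ≃ ι) {z : Matrix α α F} {i : κ} (h : Zi ε z i = 1) : z = 1 := by
  refine ext_mulVec fun v => ?_
  funext a
  have h1 := Zi_inl ε z i (fun x => match ε.symm x with
    | Sum.inl (b, _) => v b
    | Sum.inr _ => 0) a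
  simp only [Equiv.symm_apply_apply] at h1
  rw [← h1, h, one_mulVec, one_mulVec]
  simp

theorem Zi_comm (ε : (α × κ) ⊕ l ≃ ι) (z : Matrix α α F) (i j : κ) : Zi ε z i * Zi ε z j = Zi ε z j * Zi ε z i := by
  rw [Zi, Zi, ← Ps_mul, ← Ps_mul]
  congr 1
  by_cases h : i = j
  · rw [h]
  · exact (Pi.mulSingle_commute (f := fun _ : κ => Matrix α α F) h z z).eq

/-- the block permutation -/
def Pm (ε : (α × κ) ⊕ l ≃ ι) (σ : Equiv.Perm κ) : Equiv.Perm ι :=
  (ε.symm.trans (Equiv.sumCongr (Equiv.prodCongr (Equiv.refl α) σ) (Equiv.refl l))).trans ε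

theorem Pm_inl (ε : (α × κ) ⊕ l ≃ ι) (σ : Equiv.Perm κ) (a : α) (i : κ) :
    Pm ε σ (ε (Sum.inl (a, i))) = ε (Sum.inl (a, σ i)) := by
  simp [Pm]

theorem Pm_inr (ε : (α × κ) ⊕ l ≃ ι) (σ : Equiv.Perm κ) (j : l) :
    Pm ε σ (ε (Sum.inr j)) = ε (Sum.inr j) := by
  simp [Pm]

theorem perm_mulVec (τ : Equiv.Perm ι) (v : ι → F) (x : ι) : (τ.permMatrix F *ᵥ v) x = v (τ x) := by
  rw [Matrix.permMatrix_mulVec]
  rfl

theorem perm_pres (τ : Equiv.Perm ι) : Pres φ (τ.permMatrix F) := by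
  intro u v
  rw [Bf, Bf, ← Equiv.sum_comp τ (fun i => φ (u i) (v i))]
  exact Finset.sum_congr rfl fun x _ => by rw [perm_mulVec, perm_mulVec]

theorem perm_conj (ε : (α × κ) ⊕ l ≃ ι) (z : Matrix α α F) (σ : Equiv.Perm κ) (i : κ) :
    (Pm ε σ⁻¹).permMatrix F * Zi ε z i = Zi ε z (σ i) * (Pm ε σ⁻¹).permMatrix F := by
  refine ext_mulVec fun v => ?_
  funext x
  obtain ⟨y, rfl⟩ := ε.surjective x
  rw [← mulVec_mulVec, ← mulVec_mulVec, perm_mulVec]
  rcases y with ⟨a, j⟩ | j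
  · rw [Pm_inl]
    by_cases h : j = σ i
    · subst h
      have hs : σ⁻¹ (σ i) = i := σ.symm_apply_apply i
      rw [hs, Zi_inl, Zi_inl]
      congr 1
      congr 1
      funext b
      rw [perm_mulVec, Pm_inl, hs]
    · rw [Zi_inl_ne _ _ h, perm_mulVec, Pm_inl, Zi_inl_ne]
      intro h1
      exact h (by rw [← h1]; exact (σ.apply_symm_apply j).symm)
  · rw [Pm_inr, Zi_inr, Zi_inr, perm_mulVec, Pm_inr]

end Blk

end Cfsg.Agent.H380.RV
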