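import Cfsg.Agent.H380.RV.Blk
import Cfsg.Agent.H553.RV.LinDat
import Cfsg.Agent.H170.HL.PZ2

/-!
# TEAM RV, R2: the data `LinDat` for groups of matrices preserving a form `Σ φ(u_i, v_i)` (helper380)
-/

set_option autoImplicit false
set_option linter.unusedSectionVars false

namespace Cfsg.Agent.H380.RV

open Module Matrix Cfsg.Agent.H167.OP Cfsg.Agent.H170.HL Cfsg.Agent.H556.HallRowAbs Cfsg.Agent.H553.RV

section Form

variable {F : Type*} [Field F] {φ : F → F → F} {ι : Type*} [Fintype ι]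

theorem Bf_add_left (hl : ∀ a b c, φ (a + b) c = φ a c + φ b c) (u u' v : ι → F) :
    Bf φ (u + u') v = Bf φ u v + Bf φ u' v := by
  rw [Bf, Bf, Bf, ← Finset.sum_add_distrib]
  exact Finset.sum_congr rfl fun i _ => hl _ _ _

theorem Bf_add_right (hr : ∀ a b c, φ a (b + c) = φ a b + φ a c) (u v v' : ι → F) :
    Bf φ u (v + v') = Bf φ u v + Bf φ u v' := by
  rw [Bf, Bf, Bf, ← Finset.sum_add_distrib]
  exact Finset.sum_congr rfl fun i _ => hr _ _ _

/-- the form as a biadditive map -/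
def BH (hl : ∀ a b c, φ (a + b) c = φ a c + φ b c) (hr : ∀ a b c, φ a (b + c) = φ a b + φ a c) :
    (ι → F) →+ (ι → F) →+ F where
  toFun u :=
    { toFun := fun v => Bf φ u v
      map_zero' := by
        have := Bf_add_right hr u 0 0
        rw [add_zero] at this
        simpa using this
      map_add' := Bf_add_right hr u }
  map_zero' := by
    ext v
    have := Bf_add_left hl 0 0 v
    rw [add_zero] at this
    show Bf φ 0 v = 0
    simpa using this
  map_add' u u' := by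
    ext v
    exact Bf_add_left hl u u' v

theorem BH_apply (hl : ∀ a b c, φ (a + b) c = φ a c + φ b c) (hr : ∀ a b c, φ a (b + c) = φ a b + φ a c)
    (u v : ι → F) : BH hl hr u v = Bf φ u v := rfl

end Form

section Rc

variable {F : Type*} [Field F] {φ : F → F → F} {ι : Type*} [Fintype ι] [DecidableEq ι] {Y : Type*} [Group Y] [Finite Y]
  (ρ : Representation F Y (ι → F))

/-- `x` on `[V, z]` and `1` on `C_V(z)` -/
noncomputable def Tx (z x : Y) : Module.End F (ι → F) :=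
  ρ x * (1 - avg ρ (Subgroup.zpowers z)) + avg ρ (Subgroup.zpowers z)

theorem Tx_apply (z x : Y) (v : ι → F) :
    Tx ρ z x v = ρ x (v - avg ρ (Subgroup.zpowers z) v) + avg ρ (Subgroup.zpowers z) v := rfl

theorem comm_zpowers {z x : Y} (h : z * x = x * z) : ∀ d ∈ Subgroup.zpowers z, x * d = d * x := by
  rintro _ ⟨n, rfl⟩
  exact (((show Commute z x from h).zpow_left n).eq).symm

theorem avg_idem {z : Y} (hz : (Nat.card (Subgroup.zpowers z) : F) ≠ 0) (v : ι → F) :
    avg ρ (Subgroup.zpowers z) (avg ρ (Subgroup.zpowers z) v) = avg ρ (Subgroup.zpowers z) v :=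
  avg_fixed ρ _ hz fun _ he => map_avg ρ _ he v

theorem Tx_mul {z x y : Y} (hz : (Nat.card (Subgroup.zpowers z) : F) ≠ 0) (hy : z * y = y * z) :
    Tx ρ z x * Tx ρ z y = Tx ρ z (x * y) := by
  refine LinearMap.ext fun v => ?_
  show Tx ρ z x (Tx ρ z y v) = _
  have h1 : avg ρ (Subgroup.zpowers z) (Tx ρ z y v) = avg ρ (Subgroup.zpowers z) v := by
    rw [Tx_apply, map_add, ← avg_comm ρ _ (comm_zpowers hy), map_sub (avg ρ (Subgroup.zpowers z)), avg_idem ρ hz, sub_self,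
      map_zero, zero_add]
  rw [Tx_apply, h1, Tx_apply, Tx_apply, add_sub_cancel_right, mul_ap]

theorem Tx_one (z : Y) : Tx ρ z 1 = 1 := by
  refine LinearMap.ext fun v => ?_
  rw [Tx_apply, one_ap, sub_add_cancel, Module.End.one_apply]

theorem Tx_unit {z x : Y} (hz : (Nat.card (Subgroup.zpowers z) : F) ≠ 0) (hx : z * x = x * z) : IsUnit (Tx ρ z x) := by
  have hx' : z * x⁻¹ = x⁻¹ * z := by
    have : Commute z x := hx
    exact this.inv_right.eq
  refine ⟨⟨Tx ρ z x, Tx ρ z x⁻¹, ?_, ?_⟩, rfl⟩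
  · rw [Tx_mul ρ hz hx', mul_inv_cancel, Tx_one]
  · rw [Tx_mul ρ hz hx, inv_mul_cancel, Tx_one]

theorem orth_avg (hl : ∀ a b c, φ (a + b) c = φ a c + φ b c) (hr : ∀ a b c, φ a (b + c) = φ a b + φ a c)
    (hiso : ∀ g u v, Bf φ (ρ g u) (ρ g v) = Bf φ u v) {D : Subgroup Y} (hD : (Nat.card D : F) ≠ 0) {u : ι → F}
    (hu : ∀ d ∈ D, ρ d u = u) (v : ι → F) :
    Bf φ u (v - avg ρ D v) = 0 ∧ Bf φ (v - avg ρ D v) u = 0 := by
  classical
  have : Fintype D := Fintype.ofFinite D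
  have h1 : (Nat.card D : ℕ) • (v - avg ρ D v) = ∑ d : D, (v - ρ d v) := by
    rw [avg_apply, smul_sub, Finset.sum_sub_distrib, Finset.sum_const, Finset.card_univ, Nat.card_eq_fintype_card,
      ← Nat.cast_smul_eq_nsmul F, ← Nat.cast_smul_eq_nsmul F, smul_smul, mul_inv_cancel₀, one_smul]
    rwa [← Nat.card_eq_fintype_card]
  constructor
  · have h2 : (Nat.card D : F) * Bf φ u (v - avg ρ D v) = 0 := by
      rw [← nsmul_eq_mul, ← BH_apply hl hr, ← map_nsmul, h1, map_sum]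
      refine Finset.sum_eq_zero fun d _ => ?_
      rw [map_sub, BH_apply, BH_apply]
      have h3 := hiso d u v
      rw [hu d d.2] at h3
      rw [h3, sub_self]
    exact (mul_eq_zero.1 h2).resolve_left hD
  · have h2 : (Nat.card D : F) * Bf φ (v - avg ρ D v) u = 0 := by
      rw [← nsmul_eq_mul, ← BH_apply hl hr, ← AddMonoidHom.nsmul_apply, ← map_nsmul, h1, map_sum, AddMonoidHom.finsetSum_apply]
      refine Finset.sum_eq_zero fun d _ => ?_
      rw [map_sub, AddMonoidHom.sub_apply, BH_apply, BH_apply]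
      have h3 := hiso d v u
      rw [hu d d.2] at h3
      rw [h3, sub_self]
    exact (mul_eq_zero.1 h2).resolve_left hD

theorem Tx_iso (hl : ∀ a b c, φ (a + b) c = φ a c + φ b c) (hr : ∀ a b c, φ a (b + c) = φ a b + φ a c)
    (hiso : ∀ g u v, Bf φ (ρ g u) (ρ g v) = Bf φ u v) {z x : Y} (hz : (Nat.card (Subgroup.zpowers z) : F) ≠ 0)
    (hx : z * x = x * z) (u v : ι → F) : Bf φ (Tx ρ z x u) (Tx ρ z x v) = Bf φ u v := by
  set P := avg ρ (Subgroup.zpowers z) with hP
  have hfix : ∀ w, ∀ d ∈ Subgroup.zpowers z, ρ d (P w) = P w := fun w d hd => map_avg ρ _ hd w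
  have hmove : ∀ w, ρ x (w - P w) = ρ x w - P (ρ x w) := by
    intro w
    rw [map_sub, hP, avg_comm ρ _ (comm_zpowers hx)]
  have h0 : ∀ w w', Bf φ (P w) (w' - P w') = 0 := fun w w' => (orth_avg ρ hl hr hiso hz (hfix w) w').1
  have h1 : ∀ w w', Bf φ (w' - P w') (P w) = 0 := fun w w' => (orth_avg ρ hl hr hiso hz (hfix w) w').2
  have e1 : Bf φ (Tx ρ z x u) (Tx ρ z x v) = Bf φ (u - P u) (v - P v) + Bf φ (P u) (P v) := by
    rw [Tx_apply, Tx_apply, ← hP, Bf_add_left hl, Bf_add_right hr, Bf_add_right hr, hiso, hmove, hmove, h0, h1]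
    ring
  have e2 : Bf φ u v = Bf φ (u - P u) (v - P v) + Bf φ (P u) (P v) := by
    have h4 : u = (u - P u) + P u := by abel
    have h5 : v = (v - P v) + P v := by abel
    conv_lhs => rw [h4, h5]
    rw [Bf_add_left hl, Bf_add_right hr, Bf_add_right hr, h0, h1]
    ring
  rw [e1, e2]

end Rc

section Rank

variable {F : Type*} [Field F] {ι : Type*} [Fintype ι] [DecidableEq ι] {Y : Type*} [Group Y] [Finite Y]

theorem rk_eq {μ : Y →* Matrix ι ι F} {e : ℕ → ℕ} (row : RowDat (rep μ) e) {t : ℕ} (ht : t.Prime) (hodd : Odd t)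
    (htF : (t : F) ≠ 0) {z : Y} (hz : z ^ t = 1) (hz1 : z ≠ 1) (hle : rk (rep μ) z ≤ e t) : rk (rep μ) z = e t := by
  refine le_antisymm hle ?_
  have : Fact t.Prime := ⟨ht⟩
  have ho : orderOf z = t := orderOf_eq_prime hz hz1
  have hD : (Nat.card (Subgroup.zpowers z) : F) ≠ 0 := by
    rw [Nat.card_zpowers, ho]
    exact htF
  have hne : VE (rep μ) ⊥ (Subgroup.zpowers z) ≠ ⊥ := by
    intro hbot
    apply hz1
    apply row.inj
    rw [map_one]
    refine LinearMap.ext fun w => ?_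
    have h1 : w - avg (rep μ) (Subgroup.zpowers z) w ∈ VE (rep μ) ⊥ (Subgroup.zpowers z) := by
      refine ⟨fun d hd => ?_, ?_⟩
      · rw [Subgroup.mem_bot.1 hd, one_ap]
      · rw [map_sub, avg_idem _ hD, sub_self]
    rw [hbot, Submodule.mem_bot, sub_eq_zero] at h1
    have h2 := map_avg (rep μ) (Subgroup.zpowers z) (Subgroup.mem_zpowers z) w
    rw [← h1] at h2
    exact h2
  have h1 := row.lb t ht hodd htF (Subgroup.zpowers z) ⊥ bot_le (by
    rintro _ ⟨a, rfl⟩ _ ⟨b, rfl⟩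
    exact ((Commute.refl z).zpow_zpow a b).eq) (by
    rintro _ ⟨a, rfl⟩
    show (z ^ a) ^ t = 1
    rw [← zpow_natCast, ← _root_.zpow_mul, mul_comm, _root_.zpow_mul, zpow_natCast, hz, _root_.one_zpow]) hne
  refine h1.trans (Submodule.finrank_mono ((VE_le_CV (rep μ) hD).trans ?_))
  rw [Subgroup.zpowers_eq_closure]
  refine CV_closure_le ?_
  rintro s hs
  rw [Set.mem_singleton_iff.1 hs]

variable {α κ l : Type*} [Fintype α] [Fintype κ] [Fintype l] [DecidableEq α] [DecidableEq κ] [DecidableEq l]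

/-- the block `i` -/
def Wi (F : Type*) [Field F] (ε : (α × κ) ⊕ l ≃ ι) (i : κ) : Submodule F (ι → F) where
  carrier := {v | (∀ a j, j ≠ i → v (ε (Sum.inl (a, j))) = 0) ∧ ∀ j, v (ε (Sum.inr j)) = 0}
  zero_mem' := ⟨fun _ _ _ => rfl, fun _ => rfl⟩
  add_mem' := by
    rintro a b ⟨h1, h2⟩ ⟨h3, h4⟩
    exact ⟨fun x j h => by rw [Pi.add_apply, h1 x j h, h3 x j h, add_zero], fun j => by
      rw [Pi.add_apply, h2, h4, add_zero]⟩
  smul_mem' := by
    rintro c a ⟨h1, h2⟩
    exact ⟨fun x j h => by rw [Pi.smul_apply, h1 x j h, smul_zero], fun j => by rw [Pi.smul_apply, h2, smul_zero]⟩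

theorem finrank_Wi (ε : (α × κ) ⊕ l ≃ ι) (i : κ) : finrank F (Wi F ε i) ≤ Fintype.card α := by
  let f : Wi F ε i →ₗ[F] (α → F) := (LinearMap.funLeft F F fun a => ε (Sum.inl (a, i))).comp (Wi F ε i).subtype
  have hf : Function.Injective f := by
    rw [← LinearMap.ker_eq_bot, LinearMap.ker_eq_bot']
    rintro ⟨v, h1, h2⟩ hv
    apply Subtype.ext
    funext x
    obtain ⟨y, rfl⟩ := ε.surjective x
    rcases y with ⟨a, j⟩ | j
    · by_cases h : j = i
      · subst h
        exact congrFun hv a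
      · exact h1 a j h
    · exact h2 j
  have := LinearMap.finrank_le_finrank_of_injective hf
  rwa [Module.finrank_fintype_fun_eq_card] at this

variable {μ : Y →* Matrix ι ι F}

theorem range_le_Wi (ε : (α × κ) ⊕ l ≃ ι) {z0 : Matrix α α F} {i : κ} {z : Y} (hz : μ z = Zi ε z0 i) :
    LinearMap.range (rep μ z - 1) ≤ Wi F ε i := by
  rintro _ ⟨v, rfl⟩
  refine ⟨fun a j h => ?_, fun j => ?_⟩
  · show (μ z *ᵥ v) _ - v _ = 0
    rw [hz, Zi_inl_ne _ _ h, sub_self]
  · show (μ z *ᵥ v) _ - v _ = 0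
    rw [hz, Zi_inr, sub_self]

theorem rk_Zi_le (ε : (α × κ) ⊕ l ≃ ι) {z0 : Matrix α α F} {i : κ} {z : Y} (hz : μ z = Zi ε z0 i) :
    rk (rep μ) z ≤ Fintype.card α :=
  (Submodule.finrank_mono (range_le_Wi ε hz)).trans (finrank_Wi ε i)

theorem range_eq_Wi (ε : (α × κ) ⊕ l ≃ ι) {z0 : Matrix α α F} {i : κ} {z : Y} (hz : μ z = Zi ε z0 i)
    (h : rk (rep μ) z = Fintype.card α) : LinearMap.range (rep μ z - 1) = Wi F ε i := by
  apply Submodule.eq_of_le_of_finrank_le (range_le_Wi ε hz)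
  exact (finrank_Wi ε i).trans h.symm.le

/-- no fixed vectors in the block -/
theorem fpf (ε : (α × κ) ⊕ l ≃ ι) {z0 : Matrix α α F} {i : κ} {z : Y} (hz : μ z = Zi ε z0 i)
    (h : rk (rep μ) z = Fintype.card α) {v : ι → F} (hv : rep μ z v = v) (a : α) : v (ε (Sum.inl (a, i))) = 0 := by
  -- `z0 - 1` is surjective
  have hsur : Function.Surjective (Matrix.toLin' z0 - 1 : Module.End F (α → F)) := by
    intro w
    let w' : ι → F := fun x => match ε.symm x with
      | Sum.inl (b, j) => if j = i then w b else 0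
      | Sum.inr _ => 0
    have hw' : w' ∈ Wi F ε i := by
      refine ⟨fun b j hj => ?_, fun j => ?_⟩
      · show (match ε.symm (ε (Sum.inl (b, j))) with
          | Sum.inl (b, j) => if j = i then w b else 0
          | Sum.inr _ => 0) = 0
        rw [Equiv.symm_apply_apply]
        exact if_neg hj
      · show (match ε.symm (ε (Sum.inr j)) with
          | Sum.inl (b, j) => if j = i then w b else 0
          | Sum.inr _ => 0) = 0
        rw [Equiv.symm_apply_apply]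
    rw [← range_eq_Wi ε hz h] at hw'
    obtain ⟨u, hu⟩ := hw'
    refine ⟨fun b => u (ε (Sum.inl (b, i))), ?_⟩
    funext b
    have h1 := congrFun hu (ε (Sum.inl (b, i)))
    have h2 : (rep μ z - 1) u (ε (Sum.inl (b, i))) = (μ z *ᵥ u) (ε (Sum.inl (b, i))) - u (ε (Sum.inl (b, i))) := rfl
    rw [h2, hz, Zi_inl] at h1
    have h3 : w' (ε (Sum.inl (b, i))) = w b := by
      show (match ε.symm (ε (Sum.inl (b, i))) with
          | Sum.inl (b, j) => if j = i then w b else 0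
          | Sum.inr _ => 0) = w b
      rw [Equiv.symm_apply_apply]
      exact if_pos rfl
    rw [h3] at h1
    exact h1
  have hinj := LinearMap.injective_iff_surjective.2 hsur
  have h1 : (Matrix.toLin' z0 - 1 : Module.End F (α → F)) (fun b => v (ε (Sum.inl (b, i)))) = 0 := by
    funext b
    have h2 := congrFun hv (ε (Sum.inl (b, i)))
    have h3 : rep μ z v (ε (Sum.inl (b, i))) = (μ z *ᵥ v) (ε (Sum.inl (b, i))) := rfl
    rw [h3, hz, Zi_inl] at h2
    show (z0 *ᵥ fun b => v (ε (Sum.inl (b, i)))) b - v (ε (Sum.inl (b, i))) = 0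
    rw [h2, sub_self]
  have h2 := hinj (h1.trans (map_zero _).symm)
  exact congrFun h2 a

end Rank

/-- the data of a matrix group -/
structure Dt {F : Type*} [Field F] {n : ℕ} {Y : Type*} [Group Y] [Finite Y] (φ : F → F → F)
    (μ : Y →* Matrix (Fin n) (Fin n) F) (e : ℕ → ℕ) : Prop where
  inj : Function.Injective μ
  pres : ∀ y, Pres φ (μ y)
  sur : ∀ M, IsUnit M → Pres φ M → ∃ y, μ y = M
  addl : ∀ a b c, φ (a + b) c = φ a c + φ b c
  addr : ∀ a b c, φ a (b + c) = φ a b + φ a c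
  row : RowDat (rep μ) e
  ex : ∀ t : ℕ, t.Prime → Odd t → (t : F) ≠ 0 → ∃ z : Matrix (Fin (e t)) (Fin (e t)) F, z ^ t = 1 ∧ z ≠ 1 ∧ Pres φ z
  det : ∀ u : ℕ, u.Prime → Odd u → (u : F) ≠ 0 → e u ≠ 1 → ∀ M : Matrix (Fin (e u)) (Fin (e u)) F, M ^ u = 1 →
    Pres φ M → M.det = 1

section Main

variable {F : Type*} [Field F] {n : ℕ} {Y : Type*} [Group Y] [Finite Y] {φ : F → F → F}
  {μ : Y →* Matrix (Fin n) (Fin n) F} {e : ℕ → ℕ}

theorem Dt.rc (h : Dt φ μ e) (k : ℕ) (z x : Y) (hk : (k : F) ≠ 0) (hz : z ^ k = 1) (hx : z * x = x * z) :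
    ∃ x' : Y, (∀ v ∈ LinearMap.range (rep μ z - 1), rep μ x' v = rep μ x v) ∧ ∀ v, rep μ z v = v → rep μ x' v = v := by
  have hD : (Nat.card (Subgroup.zpowers z) : F) ≠ 0 := by
    intro h0
    apply hk
    rw [Nat.card_zpowers] at h0
    obtain ⟨m, hm⟩ := orderOf_dvd_of_pow_eq_one hz
    rw [hm, Nat.cast_mul, h0, zero_mul]
  have hiso : ∀ g u v, Bf φ (rep μ g u) (rep μ g v) = Bf φ u v := fun g u v => h.pres g u v
  obtain ⟨x', hx'⟩ := h.sur (Matrix.toLinAlgEquiv'.symm (Tx (rep μ) z x))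
    ((Tx_unit (rep μ) hD hx).map (Matrix.toLinAlgEquiv' (R := F) (n := Fin n)).symm) (by
      intro u v
      have h1 : ∀ w, Matrix.toLinAlgEquiv'.symm (Tx (rep μ) z x) *ᵥ w = Tx (rep μ) z x w := by
        intro w
        rw [← Matrix.toLinAlgEquiv'_apply, AlgEquiv.apply_symm_apply]
      rw [h1, h1]
      exact Tx_iso (rep μ) h.addl h.addr hiso hD hx u v)
  have h1 : ∀ w, rep μ x' w = Tx (rep μ) z x w := by
    intro w
    rw [rep_apply, hx', ← Matrix.toLinAlgEquiv'_apply, AlgEquiv.apply_symm_apply]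
  refine ⟨x', fun v hv => ?_, fun v hv => ?_⟩
  · obtain ⟨w, rfl⟩ := hv
    have h2 : avg (rep μ) (Subgroup.zpowers z) ((rep μ z - 1) w) = 0 := by
      show avg (rep μ) (Subgroup.zpowers z) (rep μ z w - w) = 0
      rw [map_sub, avg_map _ _ (Subgroup.mem_zpowers z), sub_self]
    rw [h1, Tx_apply, h2, sub_zero, add_zero]
  · have h2 : avg (rep μ) (Subgroup.zpowers z) v = v := by
      refine avg_fixed _ _ hD ?_
      intro d hd
      rw [← mem_powers_iff_mem_zpowers] at hd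
      obtain ⟨m, rfl⟩ := hd
      show rep μ (z ^ m) v = v
      induction m with
      | zero => rw [pow_zero, one_ap]
      | succ m ih => rw [pow_succ, mul_ap, hv, ih]
    rw [h1, Tx_apply, h2, sub_self, map_zero, zero_add]

theorem isUnit_of_pow {ι : Type*} [Fintype ι] [DecidableEq ι] {M : Matrix ι ι F} {t : ℕ} (ht : t ≠ 0) (h : M ^ t = 1) :
    IsUnit M := IsUnit.of_pow_eq_one h ht

/-- `e t × m + k = n` -/
theorem exists_eps (a m k n : ℕ) (h : a * m + k = n) : Nonempty ((Fin a × Fin m) ⊕ Fin k ≃ Fin n) :=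
  ⟨Fintype.equivOfCardEq (by simp [h])⟩

theorem perm_unit {ι : Type*} [Fintype ι] [DecidableEq ι] (τ : Equiv.Perm ι) : IsUnit (τ.permMatrix F) := by
  refine ⟨⟨τ.permMatrix F, (τ⁻¹).permMatrix F, ?_, ?_⟩, rfl⟩
  · refine ext_mulVec fun v => ?_
    funext x
    rw [← mulVec_mulVec, perm_mulVec, perm_mulVec, one_mulVec]
    exact congrArg v (τ.symm_apply_apply x)
  · refine ext_mulVec fun v => ?_
    funext x
    rw [← mulVec_mulVec, perm_mulVec, perm_mulVec, one_mulVec]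
    exact congrArg v (τ.apply_symm_apply x)

theorem Dt.fr (h : Dt φ μ e) (t : ℕ) (ht : t.Prime) (hodd : Odd t) (htF : (t : F) ≠ 0) (_ : t ∣ Nat.card Y) :
    ∃ (m : ℕ) (z : Fin m → Y), (∀ i, IsZ (rep μ) e t (z i)) ∧ (∀ i j, z i * z j = z j * z i) ∧
      (∀ i j, i ≠ j → ∀ v, rep μ (z i) (rep μ (z j) v - v) = rep μ (z j) v - v) ∧
      (∀ U : Submodule F (Fin n → F), (∀ i, ∀ v ∈ U, rep μ (z i) v = v) → finrank F U < e t) ∧
      ∀ σ : Equiv.Perm (Fin m), ∃ y : Y, ∀ i, y * z i * y⁻¹ = z (σ i) := by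
  obtain ⟨z0, hz0, hz1, hzp⟩ := h.ex t ht hodd htF
  have hpos := h.row.epos t ht htF
  obtain ⟨ε⟩ := exists_eps (e t) (n / e t) (n % e t) n (Nat.div_add_mod n (e t))
  have hex : ∀ i, ∃ z : Y, μ z = Zi ε z0 i := fun i =>
    h.sur _ (isUnit_of_pow ht.ne_zero (by rw [Zi_pow, hz0, Zi_one])) (Zi_pres ε hzp i)
  choose z hz using hex
  have hzt : ∀ i, z i ^ t = 1 := fun i => h.inj (by rw [map_pow, hz, Zi_pow, hz0, Zi_one, map_one])
  have hzn : ∀ i, z i ≠ 1 := by
    intro i h1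
    apply hz1
    apply Zi_inj ε (i := i)
    rw [← hz, h1, map_one]
  have hrk : ∀ i, rk (rep μ) (z i) = e t := fun i =>
    rk_eq h.row ht hodd htF (hzt i) (hzn i) ((rk_Zi_le ε (hz i)).trans (by rw [Fintype.card_fin]))
  refine ⟨n / e t, z, fun i => ⟨hzt i, hrk i⟩, ?_, ?_, ?_, ?_⟩
  · intro i j
    apply h.inj
    rw [map_mul, map_mul, hz, hz, Zi_comm]
  · intro i j hij v
    have hw : rep μ (z j) v - v ∈ Wi F ε j := range_le_Wi ε (hz j) ⟨v, rfl⟩
    generalize rep μ (z j) v - v = w at hw ⊢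
    rw [rep_apply, hz]
    funext x
    obtain ⟨y, rfl⟩ := ε.surjective x
    rcases y with ⟨a, k⟩ | k
    · by_cases hk : k = i
      · subst hk
        have h1 : (fun b => w (ε (Sum.inl (b, k)))) = 0 := funext fun b => hw.1 b k hij
        rw [Zi_inl, h1, mulVec_zero, hw.1 a k hij]
        rfl
      · rw [Zi_inl_ne _ _ hk]
    · rw [Zi_inr]
  · intro U hU
    let f : U →ₗ[F] (Fin (n % e t) → F) := (LinearMap.funLeft F F fun j => ε (Sum.inr j)).comp U.subtype
    have hf : Function.Injective f := by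
      rw [← LinearMap.ker_eq_bot, LinearMap.ker_eq_bot']
      rintro ⟨v, hv⟩ h1
      apply Subtype.ext
      funext x
      obtain ⟨y, rfl⟩ := ε.surjective x
      rcases y with ⟨a, i⟩ | j
      · exact fpf ε (hz i) (by rw [hrk, Fintype.card_fin]) (hU i v hv) a
      · exact congrFun h1 j
    have h1 := LinearMap.finrank_le_finrank_of_injective hf
    rw [Module.finrank_fintype_fun_eq_card, Fintype.card_fin] at h1
    exact lt_of_le_of_lt h1 (Nat.mod_lt _ hpos)
  · intro σ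
    obtain ⟨y, hy⟩ := h.sur ((Pm ε σ⁻¹).permMatrix F) (perm_unit _) (perm_pres _)
    refine ⟨y, fun i => ?_⟩
    rw [mul_inv_eq_iff_eq_mul]
    apply h.inj
    rw [map_mul, map_mul, hy, hz, hz, perm_conj]

theorem Ps_pow {F : Type*} [Field F] {α κ l ι : Type*} [Fintype α] [Fintype κ] [Fintype l] [Fintype ι]
    [DecidableEq α] [DecidableEq κ] [DecidableEq l] [DecidableEq ι] (ε : (α × κ) ⊕ l ≃ ι) (M : κ → Matrix α α F)
    (D : l → F) (n : ℕ) : Ps ε M D ^ n = Ps ε (M ^ n) (D ^ n) := by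
  induction n with
  | zero => rw [pow_zero, pow_zero, pow_zero, Ps_one]
  | succ n ih => rw [pow_succ, ih, pow_succ, pow_succ, Ps_mul]

theorem phi_pow {c : F} (hc : ∀ a b, φ (c * a) (c * b) = φ a b) (m : ℕ) : ∀ a b, φ (c ^ m * a) (c ^ m * b) = φ a b := by
  induction m with
  | zero => intro a b; rw [pow_zero, one_mul, one_mul]
  | succ m ih => intro a b; rw [pow_succ, mul_assoc, mul_assoc, ih, hc]

theorem Dt.de (h : Dt φ μ e) {X : Subgroup Y} (hX : ∀ y, y ∈ X ↔ (μ y).det = 1)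
    (u v : ℕ) (hu : u.Prime) (hv : v.Prime) (huv : u ≠ v) (hou : Odd u) (hov : Odd v) (huF : (u : F) ≠ 0)
    (hvF : (v : F) ≠ 0) (heu : e u = u - 1) (hev : e v = 1) (hun : u ≤ finrank F (Fin n → F)) :
    ∃ z ∈ X, ∃ b ∈ X, IsZ (rep μ) e u z ∧ b ^ v = 1 ∧ z * b = b * z ∧
      ∃ c : F, (∀ w ∈ LinearMap.range (rep μ z - 1), rep μ b w = c • w) ∧
        ∀ w, rep μ b w = c • w → w ∈ LinearMap.range (rep μ z - 1) := by
  rw [Module.finrank_fintype_fun_eq_card, Fintype.card_fin] at hun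
  have hu3 : 3 ≤ u := by
    have := hu.two_le
    rcases hou with ⟨k, hk⟩
    omega
  obtain ⟨z0, hz0, hz1, hzp⟩ := h.ex u hu hou huF
  have hdet : z0.det = 1 := h.det u hu hou huF (by omega) z0 hz0 hzp
  obtain ⟨ε⟩ := exists_eps (e u) 1 (n - e u) n (by omega)
  have hC := h.ex v hv hov hvF
  rw [hev] at hC
  obtain ⟨C, hC, hC1, hCp⟩ := hC
  -- the scalar
  obtain ⟨c, rfl⟩ : ∃ c : F, C = c • 1 := ⟨C 0 0, by
    ext i j
    rw [Subsingleton.elim i 0, Subsingleton.elim j 0]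
    simp⟩
  have hcv : c ^ v = 1 := by
    rw [smul_pow, one_pow] at hC
    have := congrFun (congrFun hC 0) 0
    simpa using this
  have hc1 : c ≠ 1 := by
    intro h1
    exact hC1 (by rw [h1, one_smul])
  have hc0 : c ≠ 0 := by
    intro h1
    rw [h1, zero_pow hv.ne_zero] at hcv
    exact zero_ne_one hcv
  have hcu : c ^ u ≠ 1 := by
    intro h1
    apply hc1
    have h2 : orderOf c ∣ Nat.gcd u v := Nat.dvd_gcd (orderOf_dvd_of_pow_eq_one h1) (orderOf_dvd_of_pow_eq_one hcv)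
    rw [(Nat.coprime_primes hu hv).2 huv, Nat.dvd_one] at h2
    exact orderOf_eq_one_iff.1 h2
  have hφ : ∀ a b, φ (c * a) (c * b) = φ a b := by
    intro a b
    have h1 := hCp (fun _ => a) (fun _ => b)
    simpa [Bf, smul_mulVec, one_mulVec] using h1
  have hφ' : ∀ a b, φ (c⁻¹ * a) (c⁻¹ * b) = φ a b := by
    intro a b
    rw [← hφ, mul_inv_cancel_left₀ hc0, mul_inv_cancel_left₀ hc0]
  have hcinv : (c⁻¹ ^ (u - 1)) ^ v = 1 := by
    rw [← pow_mul, mul_comm, pow_mul, inv_pow, hcv, inv_one, one_pow]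
  set j0 : Fin (n - e u) := ⟨0, by omega⟩ with hj0
  set D : Fin (n - e u) → F := Function.update 1 j0 (c⁻¹ ^ (u - 1)) with hD
  set M : Fin 1 → Matrix (Fin (e u)) (Fin (e u)) F := fun _ => c • 1 with hM
  have hDj : ∀ j, D j = c⁻¹ ^ (u - 1) ∨ D j = 1 := by
    intro j
    by_cases hj : j = j0
    · left
      rw [hj, hD, Function.update_self]
    · right
      rw [hD, Function.update_of_ne hj]
      rfl
  have hDv : D ^ v = 1 := by
    funext j
    rw [Pi.pow_apply, Pi.one_apply]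
    rcases hDj j with h1 | h1
    · rw [h1, hcinv]
    · rw [h1, one_pow]
  have hMv : M ^ v = 1 := by
    funext i
    rw [Pi.pow_apply, Pi.one_apply, hM]
    show (c • (1 : Matrix (Fin (e u)) (Fin (e u)) F)) ^ v = 1
    rw [smul_pow, one_pow, hcv, one_smul]
  have hb1 : Ps ε M D ^ v = 1 := by
    rw [Ps_pow, hMv, hDv, Ps_one]
  have hbp : Pres φ (Ps ε M D) := by
    refine Ps_pres ε (fun i => ?_) (fun j a b => ?_)
    · intro u' v'
      rw [hM, Bf, Bf]
      refine Finset.sum_congr rfl fun i _ => ?_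
      simp only [smul_mulVec, one_mulVec, Pi.smul_apply, smul_eq_mul]
      exact hφ _ _
    · rcases hDj j with h1 | h1
      · rw [h1]
        exact phi_pow hφ' _ _ _
      · rw [h1, one_mul, one_mul]
  have hbd : (Ps ε M D).det = 1 := by
    rw [Ps_det, Fin.prod_univ_one]
    have h1 : ∏ j, D j = c⁻¹ ^ (u - 1) := by
      rw [Finset.prod_eq_single j0]
      · rw [hD, Function.update_self]
      · intro j _ hj
        rw [hD, Function.update_of_ne hj]
        rfl
      · intro h2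
        exact absurd (Finset.mem_univ _) h2
    rw [h1, hM]
    show (c • (1 : Matrix (Fin (e u)) (Fin (e u)) F)).det * _ = 1
    rw [det_smul, det_one, mul_one, Fintype.card_fin, heu, ← mul_pow, mul_inv_cancel₀ hc0, one_pow]
  obtain ⟨z, hz⟩ := h.sur (Zi ε z0 0) (isUnit_of_pow hu.ne_zero (by rw [Zi_pow, hz0, Zi_one])) (Zi_pres ε hzp 0)
  obtain ⟨b, hb⟩ := h.sur (Ps ε M D) (isUnit_of_pow hv.ne_zero hb1) hbp
  have hzt : z ^ u = 1 := h.inj (by rw [map_pow, hz, Zi_pow, hz0, Zi_one, map_one])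
  have hzn : z ≠ 1 := by
    intro h1
    apply hz1
    apply Zi_inj ε (i := 0)
    rw [← hz, h1, map_one]
  have hrk : rk (rep μ) z = e u :=
    rk_eq h.row hu hou huF hzt hzn ((rk_Zi_le ε hz).trans (by rw [Fintype.card_fin]))
  have hrange := range_eq_Wi ε hz (hrk.trans (Fintype.card_fin _).symm)
  have hin : ∀ w : Fin n → F, ∀ a, rep μ b w (ε (Sum.inl (a, 0))) = c * w (ε (Sum.inl (a, 0))) := by
    intro w a
    rw [rep_apply, hb, Ps_inl, hM]
    show ((c • (1 : Matrix (Fin (e u)) (Fin (e u)) F)) *ᵥ fun b => w (ε (Sum.inl (b, 0)))) a = _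
    rw [smul_mulVec, one_mulVec]
    rfl
  have hir : ∀ w : Fin n → F, ∀ j, rep μ b w (ε (Sum.inr j)) = D j * w (ε (Sum.inr j)) := by
    intro w j
    rw [rep_apply, hb, Ps_inr]
  refine ⟨z, (hX z).2 ?_, b, (hX b).2 (by rw [hb, hbd]), ⟨hzt, hrk⟩, h.inj (by rw [map_pow, hb, hb1, map_one]), ?_, c,
    ?_, ?_⟩
  · rw [hz, Zi, Ps_det, Fin.prod_univ_one, Pi.mulSingle_eq_same, hdet, one_mul]
    exact Finset.prod_const_one
  · apply h.inj
    rw [map_mul, map_mul, hz, hb, Zi, ← Ps_mul, ← Ps_mul]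
    congr 1
    · funext i
      rw [Pi.mul_apply, Pi.mul_apply, hM]
      show _ * (c • (1 : Matrix (Fin (e u)) (Fin (e u)) F)) = (c • (1 : Matrix (Fin (e u)) (Fin (e u)) F)) * _
      rw [Matrix.mul_smul, Matrix.smul_mul, Matrix.mul_one, Matrix.one_mul]
    · rw [mul_comm]
  · intro w hw
    rw [hrange] at hw
    funext x
    obtain ⟨y, rfl⟩ := ε.surjective x
    rcases y with ⟨a, i⟩ | j
    · rw [Subsingleton.elim i 0, hin]
      rfl
    · rw [hir, Pi.smul_apply, hw.2 j, smul_zero, mul_zero]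
  · intro w hw
    rw [hrange]
    refine ⟨fun a j hj => absurd (Subsingleton.elim j 0) hj, fun j => ?_⟩
    have h1 := congrFun hw (ε (Sum.inr j))
    rw [hir, Pi.smul_apply, smul_eq_mul] at h1
    by_contra hne
    have h2 := mul_right_cancel₀ hne h1
    rcases hDj j with h3 | h3
    · rw [h3] at h2
      apply hcu
      have h4 : c ^ (u - 1) * c = 1 := by
        calc c ^ (u - 1) * c = c ^ (u - 1) * c⁻¹ ^ (u - 1) := by rw [h2]
          _ = 1 := by rw [← mul_pow, mul_inv_cancel₀ hc0, one_pow]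
      rw [← pow_succ] at h4
      rwa [Nat.sub_add_cancel (by omega)] at h4
    · exact hc1 (h2.symm.trans h3)

theorem Dt.linDat (h : Dt φ μ e) {X : Subgroup Y} (hX : ∀ y, y ∈ X ↔ (μ y).det = 1) : LinDat (rep μ) e X where
  row := h.row
  rc := h.rc
  fr := h.fr
  de := h.de hX

end Main

end Cfsg.Agent.H380.RV
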