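import Cfsg.Agent.OddOrderLocal.ActFitting
import Cfsg.Agent.OddOrderLocal.PStableOddMain
import Cfsg.Agent.Lib.GenFitting

/-!
# TEAM RV, R2: odd order stability puts small elements into `O_t(H)` (helper380)
-/

set_option autoImplicit false

namespace Cfsg.Agent.H380.RV

open Subgroup

/-- In a (solvable) group `H` of odd order let `z` be a `t`-element which centralises `O_r(H)` for all primes `r ≠ t`
and commutes with its conjugates under `O_t(H)`. Then `z ∈ O_t(H)`. -/
theorem mem_pCore_of_t {H : Type*} [Group H] [Finite H] [Group.IsSolvable H] (hodd : Odd (Nat.card H)) {t : ℕ}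
    [ht : Fact t.Prime] {z : H} {k : ℕ} (hz : z ^ t ^ k = 1)
    (hr : ∀ r : ℕ, r.Prime → r ≠ t → ∀ x ∈ Cfsg.pCore r H, z * x = x * z)
    (hq : ∀ e ∈ Cfsg.pCore t H, z * (e⁻¹ * z * e) = e⁻¹ * z * e * z) : z ∈ Cfsg.pCore t H := by
  have hK : (normalClosure ({z} : Set H)).Normal := normalClosure_normal
  have hzK : z ∈ normalClosure ({z} : Set H) := subset_normalClosure (Set.mem_singleton z)
  have hact : ∀ (r : ℕ) [Fact r.Prime], ∀ g ∈ normalClosure ({z} : Set H), ∃ k : ℕ,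
      g ^ r ^ k ∈ centralizer (Cfsg.pCore r H : Set H) := by
    intro r hrp g hg
    have hn : (Cfsg.pCore r H).Normal := Cfsg.Agent.Lib.Cores.pCore_normal r
    by_cases hrt : r = t
    · subst hrt
      have h1 := Cfsg.Agent.OddOrderLocal.PStableOddMain.mk_mem_pCore_normal hodd r (Cfsg.pCore r H)
        (Cfsg.Agent.Lib.Cores.pCore_isPGroup r) z (by
          intro e he
          have h2 := hq e he
          have h3 : z * (e⁻¹ * (z * e * z⁻¹)) * z⁻¹ = z * (e⁻¹ * z * e) * z⁻¹ * z⁻¹ := by group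
          rw [h3, h2]
          group)
      have h4 : normalClosure ({z} : Set H) ≤
          (Cfsg.pCore r (H ⧸ centralizer (Cfsg.pCore r H : Set H))).comap (QuotientGroup.mk' _) := by
        have h5 : (Cfsg.pCore r (H ⧸ centralizer (Cfsg.pCore r H : Set H))).Normal :=
          Cfsg.Agent.Lib.Cores.pCore_normal r
        refine normalClosure_le_normal ?_
        rw [Set.singleton_subset_iff]
        exact h1
      obtain ⟨j, hj⟩ := Cfsg.Agent.Lib.Cores.pCore_isPGroup (G := H ⧸ centralizer (Cfsg.pCore r H : Set H)) r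
        ⟨_, h4 hg⟩
      refine ⟨j, ?_⟩
      rw [← QuotientGroup.eq_one_iff]
      exact congrArg Subtype.val hj
    · refine ⟨0, ?_⟩
      rw [pow_zero, pow_one]
      have h4 : normalClosure ({z} : Set H) ≤ centralizer (Cfsg.pCore r H : Set H) := by
        refine normalClosure_le_normal ?_
        rw [Set.singleton_subset_iff]
        intro x hx
        exact (hr r hrp.out hrt x hx).symm
      exact h4 hg
  have h1 := Cfsg.Agent.OddOrderLocal.ActFitting.le_fitting_of_acts _ hK hact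
  exact Cfsg.Agent.Lib.GenFitting.mem_pCore_of_mem_fitting (h1 hzK) hz

/-- The same for a subgroup. -/
theorem mem_map_pCore_of_t {G : Type*} [Group G] {H : Subgroup G} [Finite H] (hs : Group.IsSolvable H)
    (hodd : Odd (Nat.card H)) {t : ℕ} [ht : Fact t.Prime] {z : G} (hzH : z ∈ H) {k : ℕ} (hz : z ^ t ^ k = 1)
    (hr : ∀ (r : ℕ) (D : Subgroup G), r.Prime → r ≠ t → D ≤ H → IsPGroup r D → H ≤ normalizer (D : Set G) →
      ∀ x ∈ D, z * x = x * z)
    (hq : ∀ L : Subgroup G, L ≤ H → IsPGroup t L → ∀ g ∈ H, z ∈ L → g * z * g⁻¹ ∈ L →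
      z * (g * z * g⁻¹) = g * z * g⁻¹ * z) :
    z ∈ (Cfsg.pCore t H).map H.subtype := by
  refine ⟨⟨z, hzH⟩, mem_pCore_of_t hodd (k := k) (Subtype.ext (by simpa using hz)) ?_ ?_, rfl⟩
  · intro r hrp hrt x hx
    apply Subtype.ext
    have hn : (Cfsg.pCore r H).Normal := Cfsg.Agent.Lib.Cores.pCore_normal r
    have : Fact r.Prime := ⟨hrp⟩
    refine hr r ((Cfsg.pCore r H).map H.subtype) hrp hrt (map_subtype_le _)
      ((Cfsg.Agent.Lib.Cores.pCore_isPGroup r).map _) ?_ x ⟨x, hx, rfl⟩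
    have h1 : (⊤ : Subgroup H).map H.subtype = H := by
      rw [← MonoidHom.range_eq_map]
      exact H.range_subtype
    have h2 := Subgroup.le_normalizer_map (H := Cfsg.pCore r H) H.subtype
    rw [normalizer_eq_top_iff.2 hn] at h2
    exact (le_of_eq h1.symm).trans h2
  · intro e he
    apply Subtype.ext
    have hn : (Cfsg.pCore t H).Normal := Cfsg.Agent.Lib.Cores.pCore_normal t
    have hz' : (⟨z, hzH⟩ : H) ^ t ^ k = 1 := Subtype.ext (by simpa using hz)
    have hP : IsPGroup t (zpowers (⟨z, hzH⟩ : H)) := by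
      intro x
      obtain ⟨x, i, rfl⟩ := x
      refine ⟨k, Subtype.ext ?_⟩
      show ((⟨z, hzH⟩ : H) ^ i) ^ t ^ k = 1
      rw [← zpow_natCast, ← zpow_mul, mul_comm, zpow_mul, zpow_natCast, hz', one_zpow]
    have hL : IsPGroup t (Cfsg.pCore t H ⊔ zpowers (⟨z, hzH⟩ : H) : Subgroup H) :=
      (Cfsg.Agent.Lib.Cores.pCore_isPGroup t).to_sup_of_normal_left hP
    have h1 : (⟨z, hzH⟩ : H) ∈ (Cfsg.pCore t H ⊔ zpowers (⟨z, hzH⟩ : H) : Subgroup H) :=
      mem_sup_right (mem_zpowers _)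
    have h2 : e ∈ (Cfsg.pCore t H ⊔ zpowers (⟨z, hzH⟩ : H) : Subgroup H) := mem_sup_left he
    have h3 := hq ((Cfsg.pCore t H ⊔ zpowers (⟨z, hzH⟩ : H) : Subgroup H).map H.subtype) (map_subtype_le _)
      (hL.map _) (e⁻¹ : H) (e⁻¹ : H).2 ⟨_, h1, rfl⟩
      ⟨e⁻¹ * ⟨z, hzH⟩ * e, mul_mem (mul_mem (inv_mem h2) h1) h2, by
        show ((e⁻¹ : H) : G) * z * (e : G) = ((e⁻¹ : H) : G) * z * ((e⁻¹ : H) : G)⁻¹
        rw [Subgroup.coe_inv, inv_inv]⟩
    rw [Subgroup.coe_inv, inv_inv] at h3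
    exact h3

end Cfsg.Agent.H380.RV
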